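import Cfsg.Agent.H919.Gs.OmThree
import Cfsg.Agent.H445.Gs.Start
import Cfsg.Agent.H340.Gs.R3

/-!
# S4327, `r = 3`, orthogonal groups, linear similarities: two conjugates (helper919)
-/

set_option autoImplicit false

namespace Cfsg.Agent.H919.Gs

open QuadraticMap Cfsg.Agent.LieClassical.OrthCore Cfsg.Agent.LieClassical.OrthTrans
  Cfsg.Agent.LieClassical.OrthFinite Cfsg.Agent.LieClassical.SLTwoUnipotent Cfsg.Agent.H883.Sub Cfsg.Agent.H883.Root
  Module Cfsg.Agent.H445.AH Cfsg.Agent.H445.Gs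
  Cfsg.Agent.ClassicalGeometry.OrthSemi Cfsg.Agent.UGT.U2.FOne.Orth Cfsg.Agent.H915.Gs

variable {F V : Type*} [Field F] [AddCommGroup V] [Module F V] {Q : QuadraticForm F V}

/-- **`r = 3`, orthogonal groups, linear similarities** -/
theorem om_r3 [Finite F] [FiniteDimensional F V] (hG : Good Q) (h8 : 8 ≤ finrank F V) (M : Gam Q) {σ : F ≃+* F} {c : F}
    (hM : IsSS Q σ c M.1) (hσ : ∀ t, σ t = t) (hsc : ¬ ∃ k : F, k ≠ 0 ∧ ∀ v, M.1 v = k • v)
    (hrf : ¬ ∃ (k : F) (w : V) (hw : Q w ≠ 0), k ≠ 0 ∧ ∀ v, M.1 v = k • refl Q w hw v)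
    (ho : (orderOf (Psi Q M)).Prime) : Ord (Psi Q M) 2 3 := by
  by_cases h3 : (3 : F) = 0
  · exact om_three hG h3 h8 M ho
  have hfV : Finite V := Module.finite_of_finite F
  have hfin : Finite (V ≃ₗ[F] V) := Finite.of_injective (fun g : V ≃ₗ[F] V => (g : V → V)) DFunLike.coe_injective
  obtain ⟨x, y, h⟩ : ∃ u v, Opp Q u v (M.1 u) (M.1 v) := by
    rcases exists_opp' hG (by omega) hM with h | ⟨-, h⟩ | ⟨-, h⟩
    · exact h
    · exact absurd h hsc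
    · exact absurd h hrf
  obtain ⟨f₁, e₂, h4, -, h5⟩ := exists_psi hM h
  have hD : DD Q M.1 x y ≠ 0 := h.det
  refine Cfsg.Agent.H340.Gs.ord_of_opp (F := F) (π := QuotientGroup.mk' (Subgroup.center ↥(E Q))) (a := conjE Q M)
    (good_conj_injective hG) (fun g => (Psi_mk M g).symm) h3 (c := -(DD Q M.1 x y * c⁻¹))
    (neg_ne_zero.2 (mul_ne_zero hD (inv_ne_zero hM.ne))) (σ := RingHom.id F) (Or.inl ⟨1, odd_one, fun y => rfl⟩)
    h4.rhoE ?_ ?_
  · intro t A B hA hB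
    have e1 : A = u t := by
      apply Subtype.ext
      rw [hA]; rfl
    have e2 : B = l (-(DD Q M.1 x y * c⁻¹) * σ t) := by
      apply Subtype.ext
      rw [hB, hσ]; rfl
    rw [e1, e2, h5]
  · intro A hA hA1
    have h6 : A = 1 := by
      apply h4.rhoP_injective hG
      rw [Four.rhoP_apply, Four.rhoP_apply, map_one]
      exact hA1
    rw [h6, orderOf_one] at hA
    omega

/-- the hypothesis `h3` of `H445.Gs.out_Psi_of` -/
theorem om_h3 [Finite F] [FiniteDimensional F V] (hG : Good Q) : 16 ≤ finrank F V → ∀ (M : Gam Q) {σ : F ≃+* F} {c : F},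
    IsSS Q σ c M.1 → (∀ t, σ t = t) → (¬ ∃ k : F, k ≠ 0 ∧ ∀ v, M.1 v = k • v) →
      (¬ ∃ (k : F) (w : V) (hw : Q w ≠ 0), k ≠ 0 ∧ ∀ v, M.1 v = k • refl Q w hw v) →
      (orderOf (Psi Q M)).Prime → 3 ∣ Nat.card (↥(E Q) ⧸ Subgroup.center ↥(E Q)) → Ord (Psi Q M) 2 3 :=
  fun h16 M _ _ hM hσ hsc hrf ho _ => om_r3 hG (by omega) M hM hσ hsc hrf ho

end Cfsg.Agent.H919.Gs
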