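import Cfsg.Agent.H919.Gs.Three
import Cfsg.Agent.ClassicalGeometry.OrthSemi
import Cfsg.Agent.H920.FP.Zero

/-!
# S4327, `r = 3`, orthogonal groups in characteristic three, all semisimilitudes (helper919)

`M : Gam Q` of prime order modulo scalars, `3 = 0` in `F`, `dim V ≥ 8`: two conjugates of `Psi Q M` generate a group of
order divisible by three.  Chevalley-Warning over the fixed field of `σ`: `u ≠ 0` with `Q u = 0 = b(u, M u)`.
* `M u ∉ ⟨u⟩`: `w ⊥ u, M u, M⁻¹ u` with `b(w, M w) = 0`, `w ∉ ⟨u, M u⟩`; `siegel u w` commutes with its image;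
* `M u ∈ ⟨u⟩`: `M` normalises the abelian `3`-group of all `siegel u w`.
-/

set_option autoImplicit false

namespace Cfsg.Agent.H919.Gs

open QuadraticMap Module Cfsg.Agent.LieClassical.OrthCore Cfsg.Agent.LieClassical.OrthTrans
  Cfsg.Agent.LieClassical.OrthSimple Cfsg.Agent.ClassicalGeometry.OrthSemi Cfsg.Agent.H915.Gs

variable {F V : Type*} [Field F] [AddCommGroup V] [Module F V] {Q : QuadraticForm F V}

section gen

theorem good_conj_injective (hG : Good Q) :
    Function.Injective (MulAut.conj : (↥(E Q) ⧸ Subgroup.center ↥(E Q)) →* _) := by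
  have hs := good_isSimpleGroup hG
  refine conj_injective fun hc => ?_
  have h1 : commutator (↥(E Q) ⧸ Subgroup.center ↥(E Q)) = ⊤ := by
    rw [commutator_def, ← Subgroup.map_top_of_surjective (QuotientGroup.mk' (Subgroup.center ↥(E Q)))
      (QuotientGroup.mk'_surjective _), ← Subgroup.map_commutator, ← commutator_def, commutator_E hG]
  have h2 : commutator (↥(E Q) ⧸ Subgroup.center ↥(E Q)) = ⊥ := by
    rw [commutator_def, Subgroup.commutator_eq_bot_iff_le_centralizer]
    intro a _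
    rw [Subgroup.mem_centralizer_iff]
    intro b _
    exact hc.is_comm.comm b a
  rw [h2] at h1
  exact bot_ne_top h1

/-- central elements are scalars -/
theorem scalar_of_center (hG : Good Q) {z : ↥(E Q)} (hz : z ∈ Subgroup.center ↥(E Q)) :
    ∃ k : F, ∀ v : V, (z : V ≃ₗ[F] V) v = k • v := by
  refine good_eq_smul_of_fix hG fun u hu => ?_
  by_cases hu0 : u = 0
  · exact ⟨0, by rw [hu0, map_zero, smul_zero]⟩
  refine eq_smul_of_fixed hG hu hu0 fun w hw => ?_
  have h1 := Subgroup.mem_center_iff.1 hz ⟨_, siegel_mem_E hu hw⟩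
  have h2 := congrArg (fun g : ↥(E Q) => (g : V ≃ₗ[F] V) u) h1
  have h3 : siegel Q u w hu hw ((z : V ≃ₗ[F] V) u) = (z : V ≃ₗ[F] V) (siegel Q u w hu hw u) := h2
  rw [h3]
  congr 1
  rw [siegel_apply, polar_self_of_sing hu, polar_comm Q w u, hw]
  simp

/-- in characteristic three a central element of order three is trivial -/
theorem center_three (hG : Good Q) (h3 : (3 : F) = 0) {z : ↥(E Q)} (hz : z ∈ Subgroup.center ↥(E Q))
    (hz3 : z ^ 3 = 1) : z = 1 := by
  obtain ⟨k, hk⟩ := scalar_of_center hG hz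
  obtain ⟨u, hu0, hu⟩ := hG.sing
  have h1 : (k ^ 3) • u = u := by
    have h2 : ((z ^ 3 : ↥(E Q)) : V ≃ₗ[F] V) u = u := by rw [hz3]; rfl
    have h4 : ((z ^ 3 : ↥(E Q)) : V ≃ₗ[F] V) u = (z : V ≃ₗ[F] V) ((z : V ≃ₗ[F] V) ((z : V ≃ₗ[F] V) u)) := by
      rw [pow_succ, pow_two]; rfl
    rw [h4, hk, hk, hk, smul_smul, smul_smul] at h2
    rw [pow_succ, pow_two]
    exact h2
  have h5 : k ^ 3 = 1 := by
    have h6 : (k ^ 3 - 1) • u = 0 := by rw [sub_smul, h1, one_smul, sub_self]
    rcases smul_eq_zero.1 h6 with h7 | h7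
    · exact sub_eq_zero.1 h7
    · exact absurd h7 hu0
  have h6 : (k - 1) ^ 3 = 0 := by
    have : (k - 1) ^ 3 = k ^ 3 - 1 - 3 * (k ^ 2 - k) := by ring
    rw [this, h5, h3]; ring
  have h7 : k = 1 := sub_eq_zero.1 (pow_eq_zero_iff (by norm_num) |>.1 h6)
  apply Subtype.ext
  ext v
  rw [hk, h7, one_smul]; rfl

theorem siegel_congr' {u w u' w' : V} (hu : Q u = 0) (hw : polar Q u w = 0) (hu' : Q u' = 0) (hw' : polar Q u' w' = 0)
    (h1 : u = u') (h2 : w = w') : siegel Q u w hu hw = siegel Q u' w' hu' hw' := by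
  subst h1 h2; rfl

theorem siegel_zero' {u w : V} (hu : Q u = 0) (hw : polar Q u w = 0) (h : w = 0) : siegel Q u w hu hw = 1 := by
  subst h
  ext v
  rw [siegel_apply]
  simp

theorem siegel_pow_three (h3 : (3 : F) = 0) {u w : V} (hu : Q u = 0) (hw : polar Q u w = 0) :
    siegel Q u w hu hw ^ 3 = 1 := by
  have h2 : polar Q u (w + w) = 0 := by rw [polar_add_right, hw, add_zero]
  have h4 : polar Q u (w + w + w) = 0 := by rw [polar_add_right, h2, hw, add_zero]
  rw [pow_succ, pow_two, siegel_mul hu hw hw h2, siegel_mul hu h2 hw h4]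
  refine siegel_zero' hu h4 ?_
  calc w + w + w = (3 : F) • w := by module
    _ = 0 := by rw [h3, zero_smul]

/-- two commuting elements `s`, `a s` of order three with `a s ≠ s` -/
theorem ord_of_pair [Finite V] (hG : Good Q) (h3 : (3 : F) = 0) (M : Gam Q) (s : ↥(E Q)) (hs : s ^ 3 = 1)
    (hc : s * conjE Q M s = conjE Q M s * s) (hne : conjE Q M s ≠ s) : Ord (Psi Q M) 2 3 := by
  have hfin : Finite (V ≃ₗ[F] V) := Finite.of_injective (fun g : V ≃ₗ[F] V => (g : V → V)) DFunLike.coe_injective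
  have h1 : (s * (conjE Q M s)⁻¹) ^ 3 = 1 := by
    have hc' : Commute s (conjE Q M s)⁻¹ := Commute.inv_right hc
    rw [hc'.mul_pow, inv_pow, ← map_pow, hs, map_one, inv_one, mul_one]
  refine ord_three (good_conj_injective hG) (π := QuotientGroup.mk' (Subgroup.center ↥(E Q))) (a := conjE Q M)
    (fun g => rfl) s h1 ?_
  intro h2
  have h4 : s * (conjE Q M s)⁻¹ ∈ Subgroup.center ↥(E Q) := (QuotientGroup.eq_one_iff _).1 h2
  have h5 := center_three hG h3 h4 h1
  exact hne (mul_inv_eq_one.1 h5).symm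

/-- **Case A.** -/
theorem case_A [Finite V] (hG : Good Q) (h3 : (3 : F) = 0) {M : Gam Q} {σ : F ≃+* F} {c : F} (hM : IsSS Q σ c M.1) {u w : V}
    (hu : Q u = 0) (hu1 : polar Q u (M.1 u) = 0) (huM : ∀ k : F, M.1 u ≠ k • u) (hw0 : polar Q u w = 0)
    (hw1 : polar Q (M.1 u) w = 0) (hw2 : polar Q u (M.1 w) = 0) (hww : polar Q w (M.1 w) = 0)
    (hwi : ∀ a b : F, w ≠ a • u + b • M.1 u) : Ord (Psi Q M) 2 3 := by
  obtain ⟨hu', hw', e⟩ := conjLin_siegel M hM hu hw0
  have es : ((conjE Q M ⟨_, siegel_mem_E hu hw0⟩ : ↥(E Q)) : V ≃ₗ[F] V) = siegel Q (M.1 u) (c⁻¹ • M.1 w) hu' hw' := e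
  refine ord_of_pair hG h3 M ⟨_, siegel_mem_E hu hw0⟩ (Subtype.ext (siegel_pow_three h3 hu hw0)) ?_ ?_
  · apply Subtype.ext
    change siegel Q u w hu hw0 * ((conjE Q M ⟨_, siegel_mem_E hu hw0⟩ : ↥(E Q)) : V ≃ₗ[F] V) =
      ((conjE Q M ⟨_, siegel_mem_E hu hw0⟩ : ↥(E Q)) : V ≃ₗ[F] V) * siegel Q u w hu hw0
    rw [es, ← mul_inv_eq_iff_eq_mul]
    have f1 : siegel Q u w hu hw0 (M.1 u) = M.1 u := by
      rw [siegel_apply, hu1, polar_comm Q w, hw1]; simp
    have f2 : siegel Q u w hu hw0 (c⁻¹ • M.1 w) = c⁻¹ • M.1 w := by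
      rw [siegel_apply, polar_smul_right, polar_smul_right, hw2, hww]; simp
    rw [siegel_conj (siegel_mem_O hu hw0) hu' hw' (by rw [f1]; exact hu') (by rw [f1, f2]; exact hw')]
    exact siegel_congr' _ _ _ _ f1 f2
  · intro hE
    have hE' : siegel Q u w hu hw0 = siegel Q (M.1 u) (c⁻¹ • M.1 w) hu' hw' := by
      rw [← es, hE]
    obtain ⟨v, hv1, hv2⟩ := exists_sep (x := c⁻¹ • M.1 w) (z := M.1 u) hG.nondeg (by
      intro d hd
      have h1 : M.1 w = (c * d) • M.1 u := by
        rw [mul_smul, ← hd, smul_smul, mul_inv_cancel₀ hM.ne, one_smul]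
      have h2 : M.1 w = M.1 ((σ.symm (c * d)) • u) := by
        rw [hM.smul, RingEquiv.apply_symm_apply, h1]
      exact hwi (σ.symm (c * d)) 0 (by rw [zero_smul, add_zero]; exact M.1.injective h2))
    have h1 := siegel_eq_of_eq hE' v
    rw [hv1, hv2] at h1
    have h2 : polar Q u v • w = (polar Q w v + Q w * polar Q u v) • u + (-1 : F) • M.1 u := by
      have h4 : polar Q u v • w = (polar Q u v • w - polar Q w v • u - (Q w * polar Q u v) • u) +
        (polar Q w v + Q w * polar Q u v) • u := by module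
      rw [h4, h1]
      simp
      abel
    by_cases h0 : polar Q u v = 0
    · rw [h0, zero_smul, mul_zero, add_zero] at h2
      exact huM (polar Q w v) (by
        have : M.1 u = polar Q w v • u - (polar Q w v • u + (-1 : F) • M.1 u) := by module
        rw [this, ← h2, sub_zero])
    · apply hwi ((polar Q u v)⁻¹ * (polar Q w v + Q w * polar Q u v)) ((polar Q u v)⁻¹ * (-1))
      rw [mul_smul, mul_smul, ← smul_add, ← h2, smul_smul, inv_mul_cancel₀ h0, one_smul]

/-- **Case B, moved.** -/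
theorem case_B [Finite V] (hG : Good Q) (h3 : (3 : F) = 0) {M : Gam Q} {σ : F ≃+* F} {c : F} (hM : IsSS Q σ c M.1) {u w : V}
    (hu : Q u = 0) (hu0 : u ≠ 0) {k : F} (hk : M.1 u = k • u) (hw : polar Q u w = 0)
    (hne : ∀ α : F, (k * c⁻¹) • M.1 w ≠ w + α • u) : Ord (Psi Q M) 2 3 := by
  obtain ⟨hu', hw', e⟩ := conjLin_siegel M hM hu hw
  have hw2 : polar Q u ((k * c⁻¹) • M.1 w) = 0 := by
    have h1 := hw'
    rw [hk, polar_smul_left, polar_smul_right] at h1
    rw [polar_smul_right, mul_smul]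
    exact h1
  have hs : siegel Q (M.1 u) (c⁻¹ • M.1 w) hu' hw' = siegel Q u ((k * c⁻¹) • M.1 w) hu hw2 := by
    ext v
    rw [siegel_apply, siegel_apply, hk, polar_smul_left, polar_smul_left, polar_smul_left, QuadraticMap.map_smul,
      QuadraticMap.map_smul]
    simp only [smul_eq_mul]
    module
  have es : ((conjE Q M ⟨_, siegel_mem_E hu hw⟩ : ↥(E Q)) : V ≃ₗ[F] V) = siegel Q u ((k * c⁻¹) • M.1 w) hu hw2 :=
    e.trans hs
  refine ord_of_pair hG h3 M ⟨_, siegel_mem_E hu hw⟩ (Subtype.ext (siegel_pow_three h3 hu hw)) ?_ ?_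
  · apply Subtype.ext
    change siegel Q u w hu hw * ((conjE Q M ⟨_, siegel_mem_E hu hw⟩ : ↥(E Q)) : V ≃ₗ[F] V) =
      ((conjE Q M ⟨_, siegel_mem_E hu hw⟩ : ↥(E Q)) : V ≃ₗ[F] V) * siegel Q u w hu hw
    have a1 : polar Q u (w + (k * c⁻¹) • M.1 w) = 0 := by rw [polar_add_right, hw, hw2, add_zero]
    have a2 : polar Q u ((k * c⁻¹) • M.1 w + w) = 0 := by rw [polar_add_right, hw, hw2, add_zero]
    rw [es, siegel_mul hu hw hw2 a1, siegel_mul hu hw2 hw a2]
    exact siegel_congr' _ _ _ _ rfl (add_comm _ _)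
  · intro hE
    have hE' : siegel Q u w hu hw = siegel Q u ((k * c⁻¹) • M.1 w) hu hw2 := by
      rw [← es, hE]
    obtain ⟨v, hv⟩ := hG.nondeg.exists_polar_eq hu0 1
    have h1 := siegel_eq_of_eq hE' v
    rw [hv, one_smul, one_smul, mul_one, mul_one] at h1
    apply hne (polar Q ((k * c⁻¹) • M.1 w) v + Q ((k * c⁻¹) • M.1 w) - polar Q w v - Q w)
    have h2 : (k * c⁻¹) • M.1 w = ((k * c⁻¹) • M.1 w - polar Q ((k * c⁻¹) • M.1 w) v • u -
      Q ((k * c⁻¹) • M.1 w) • u) + (polar Q ((k * c⁻¹) • M.1 w) v + Q ((k * c⁻¹) • M.1 w)) • u := by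
      module
    conv_lhs => rw [h2]
    rw [← h1]
    module

/-- **Case B, fixed.** -/
theorem case_C (hG : Good Q) (h3 : (3 : F) = 0) {M : Gam Q} {σ : F ≃+* F} {c : F} (hM : IsSS Q σ c M.1) {u : V}
    (hu : Q u = 0) (hu0 : u ≠ 0) {k : F} (hk : M.1 u = k • u)
    (h : ∀ w, polar Q u w = 0 → ∃ α : F, (k * c⁻¹) • M.1 w = w + α • u) : Psi Q M ^ 3 = 1 := by
  have hk0 : k ≠ 0 := by
    rintro rfl
    rw [zero_smul, ← hM.map_zero] at hk
    exact hu0 (M.1.injective hk)
  obtain ⟨y, hy⟩ := Cfsg.Agent.LieClassical.OrthTrans.exists_hyp hG.nondeg hu hu0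
  obtain ⟨z, w, hzw, hz1, hz2, hz3, hz4⟩ := hG.exists_hyp2 hy
  have hind : ∀ e : F, z ≠ e • u := by
    rintro e rfl
    have := hzw.pair
    rw [polar_smul_left, hz2, smul_zero] at this
    exact zero_ne_one this
  -- `σ` is trivial
  have hσ : ∀ t : F, σ t = t := by
    intro t
    obtain ⟨α, hα⟩ := h z hz1
    obtain ⟨β, hβ⟩ := h (t • z) (by rw [polar_smul_right, hz1, smul_zero])
    rw [hM.smul, smul_comm, hα] at hβ
    by_contra hne
    apply hind ((σ t - t)⁻¹ * (β - σ t * α))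
    have h1 : (σ t - t) • z = (β - σ t * α) • u := by
      have : (σ t - t) • z = σ t • (z + α • u) - t • z - (σ t * α) • u := by module
      rw [this, hβ]
      module
    rw [mul_smul, ← h1, smul_smul, inv_mul_cancel₀ (sub_ne_zero.2 hne), one_smul]
  -- the multiplier
  have hkc : (k * c⁻¹) * (k * c⁻¹) * c = 1 := by
    obtain ⟨α, hα⟩ := h (z + w) (by rw [polar_add_right, hz1, hz2, add_zero])
    have h1 : Q (z + w) = 1 := by rw [Q_add, hzw.left, hzw.right, hzw.pair]; ring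
    have h2 : Q ((k * c⁻¹) • M.1 (z + w)) = Q (z + w + α • u) := congrArg (fun v => Q v) hα
    rw [QuadraticMap.map_smul, hM.form, hσ, h1, mul_one, Q_add (z + w), h1, QuadraticMap.map_smul, hu, smul_zero,
      add_zero, polar_smul_right, polar_add_left, polar_comm Q z u, hz1, polar_comm Q w u, hz2, add_zero, smul_zero,
      add_zero, smul_eq_mul] at h2
    exact h2
  obtain ⟨e, he⟩ : ∃ e : F, e = k * c⁻¹ := ⟨_, rfl⟩
  have he0 : e ≠ 0 := by rw [he]; exact mul_ne_zero hk0 (inv_ne_zero hM.ne)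
  rw [← he] at hkc h
  have hke : e * k = 1 := by
    have h1 : k = e * c := by rw [he, mul_assoc, inv_mul_cancel₀ hM.ne, mul_one]
    rw [h1, ← mul_assoc, hkc]
  have hNu : e • M.1 u = u := by rw [hk, smul_smul, hke, one_smul]
  have hNp : ∀ x y : V, polar Q (e • M.1 x) (e • M.1 y) = polar Q x y := by
    intro x y
    rw [polar_smul_left, polar_smul_right, hM.polar, hσ]
    simp only [smul_eq_mul]
    calc e * (e * (c * polar Q x y)) = (e * e * c) * polar Q x y := by ring
      _ = _ := by rw [hkc, one_mul]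
  -- `D = N - 1`
  have hD : ∀ v : V, ∃ (d : V) (α : F), e • M.1 v = v + d ∧ polar Q u d = 0 ∧ e • M.1 d = d + α • u := by
    intro v
    obtain ⟨α, hα⟩ := h (e • M.1 v - v) (by
      have h1 := hNp u v
      rw [hNu] at h1
      rw [polar_sub_right, h1, sub_self])
    refine ⟨e • M.1 v - v, α, by abel, ?_, hα⟩
    have h1 := hNp u v
    rw [hNu] at h1
    rw [polar_sub_right, h1, sub_self]
  have hN3 : ∀ v : V, e • M.1 (e • M.1 (e • M.1 v)) = v := by
    intro v
    obtain ⟨d, α, h1, h2, h4⟩ := hD v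
    have h5 : ∀ x y : V, e • M.1 (x + y) = e • M.1 x + e • M.1 y := by
      intro x y; rw [hM.add, smul_add]
    have h6 : e • M.1 (α • u) = α • u := by
      rw [hM.smul, hσ, smul_comm, hNu]
    rw [h1, h5, h1, h4, h5, h5, h1, h4, h5, h4, h6]
    have : v + d + (d + α • u) + (d + α • u + α • u) = v + (3 : F) • (d + α • u) := by module
    rw [this, h3, zero_smul, add_zero]
  -- `M ^ 3` is a scalar
  have hM3 : ∀ v : V, M.1 (M.1 (M.1 v)) = (e⁻¹ ^ 3) • v := by
    intro v
    have h1 := hN3 v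
    rw [hM.smul, hM.smul, hM.smul] at h1
    simp only [hσ, smul_smul] at h1
    conv_rhs => rw [← h1]
    rw [smul_smul]
    have : e⁻¹ ^ 3 * (e * (e * e)) = 1 := by field_simp
    rw [this, one_smul]
  have h7 : M ^ 3 ∈ (Psi Q).ker := by
    rw [ker_Psi hG]
    refine ⟨Units.mk0 (e⁻¹ ^ 3) (pow_ne_zero _ (inv_ne_zero he0)), ?_⟩
    apply Subtype.ext
    ext v
    have h8 : (M ^ 3).1 v = M.1 (M.1 (M.1 v)) := by
      rw [pow_succ, pow_two]; rfl
    rw [h8, hM3]
    rfl
  rw [← map_pow]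
  exact h7

end gen

section main

variable [Finite F] [FiniteDimensional F V]

/-- the fixed field of `σ` -/
def kk (σ : F ≃+* F) : Subfield F := RingHom.eqLocusField (σ : F →+* F) (RingHom.id F)

omit [Finite F] in
theorem mem_kk {σ : F ≃+* F} {t : F} : t ∈ kk σ ↔ σ t = t := Iff.rfl

/-- `b(w, M w)` as a quadratic map over the fixed field -/
noncomputable def RM {M : Gam Q} {σ : F ≃+* F} {c : F} (hM : IsSS Q σ c M.1) : QuadraticMap (kk σ) V F :=
  LinearMap.BilinMap.toQuadraticMap (LinearMap.mk₂ (kk σ) (fun v w : V => polar Q v (M.1 w))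
    (fun v v' w => polar_add_left _ _ _ _) (fun t v w => by
      change polar Q ((t : F) • v) (M.1 w) = (t : F) • polar Q v (M.1 w)
      rw [polar_smul_left]) (fun v w w' => by rw [hM.add, polar_add_right]) (fun t v w => by
      change polar Q v (M.1 ((t : F) • w)) = (t : F) • polar Q v (M.1 w)
      rw [hM.smul, mem_kk.1 t.2, polar_smul_right]))

omit [Finite F] [FiniteDimensional F V] in
theorem RM_apply {M : Gam Q} {σ : F ≃+* F} {c : F} (hM : IsSS Q σ c M.1) (v : V) : RM hM v = polar Q v (M.1 v) := rfl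

/-- **Characteristic three.** -/
theorem om_three (hG : Good Q) (h3 : (3 : F) = 0) (h8 : 8 ≤ finrank F V) (M : Gam Q)
    (hp : (orderOf (Psi Q M)).Prime) : Ord (Psi Q M) 2 3 := by
  obtain ⟨σ, c, hM⟩ := M.2
  have hfV : Finite V := Module.finite_of_finite F
  obtain ⟨u, hu0, hu, hu1⟩ := Cfsg.Agent.H920.FP.zero_two (k := kk σ) (F := F) (Y := V)
    (QuadraticMap.restrictScalars (S := kk σ) Q) (RM hM) (by omega)
  have hu' : Q u = 0 := hu
  rw [RM_apply] at hu1
  by_cases hfix : ∃ k : F, M.1 u = k • u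
  · obtain ⟨k, hk⟩ := hfix
    by_cases hB : ∃ w, polar Q u w = 0 ∧ ∀ α : F, (k * c⁻¹) • M.1 w ≠ w + α • u
    · obtain ⟨w, hw, hne⟩ := hB
      exact case_B hG h3 hM hu' hu0 hk hw hne
    · push Not at hB
      have h1 := case_C hG h3 hM hu' hu0 hk hB
      have h2 := orderOf_dvd_of_pow_eq_one h1
      have h4 := (Nat.prime_dvd_prime_iff_eq hp Nat.prime_three).1 h2
      exact Ord.of_orderOf (by norm_num) (by rw [h4])
  · push Not at hfix
    obtain ⟨C, hC⟩ := Submodule.exists_isCompl (Submodule.span F {u, M.1 u})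
    let f : V →ₗ[F] F × F × F := (Q.polarBilin u).prod ((Q.polarBilin (M.1 u)).prod (Q.polarBilin (M.1.symm u)))
    have e1 := f.finrank_range_add_finrank_ker
    have e2 : finrank F (LinearMap.range f) ≤ 3 := by
      refine (Submodule.finrank_le _).trans ?_
      rw [Module.finrank_prod, Module.finrank_prod, Module.finrank_self]
    have e3 : finrank F (Submodule.span F {u, M.1 u}) ≤ 2 := by
      classical
      have := finrank_span_finset_le_card (R := F) ({u, M.1 u} : Finset V)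
      rw [Finset.coe_insert, Finset.coe_singleton] at this
      exact this.trans Finset.card_le_two
    have e4 := Submodule.finrank_add_eq_of_isCompl hC
    have e5 := Submodule.finrank_sup_add_finrank_inf_eq (LinearMap.ker f) C
    have e6 : finrank F ↥(LinearMap.ker f ⊔ C) ≤ finrank F V := Submodule.finrank_le _
    obtain ⟨w, hw0, hw⟩ := Cfsg.Agent.H920.FP.zero_one (k := kk σ) (F := F) (Y := ↥(LinearMap.ker f ⊓ C))
      ((RM hM).comp ((LinearMap.ker f ⊓ C).subtype.restrictScalars (kk σ))) (by omega)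
    have hww : polar Q (w : V) (M.1 w) = 0 := hw
    have hwf : f (w : V) = 0 := w.2.1
    have hwC : (w : V) ∈ C := w.2.2
    have g1 : polar Q u w = 0 := congrArg Prod.fst hwf
    have g2 : polar Q (M.1 u) w = 0 := congrArg (fun x => x.2.1) hwf
    have g3 : polar Q (M.1.symm u) w = 0 := congrArg (fun x => x.2.2) hwf
    have g4 : polar Q u (M.1 w) = 0 := by
      have h1 := hM.polar (M.1.symm u) w
      rw [g3, map_zero, mul_zero, Equiv.apply_symm_apply] at h1
      exact h1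
    refine case_A hG h3 hM hu' hu1 hfix g1 g2 g4 hww fun a b hab => hw0 ?_
    have g5 : (w : V) ∈ Submodule.span F {u, M.1 u} := by
      rw [hab]
      exact Submodule.mem_span_pair.2 ⟨a, b, rfl⟩
    exact Subtype.ext (Submodule.disjoint_def.1 hC.disjoint _ g5 hwC)

end main

end Cfsg.Agent.H919.Gs
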